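import Groth.Agent.L12.RadEndo.Integral
import Groth.Agent.L18.KerReduced

/-!
# Universally injective endomorphisms of schemes of finite type over `ℤ` are finite
-/

set_option autoImplicit false
set_option linter.style.haveILetI false
set_option backward.isDefEq.respectTransparency.types false
set_option backward.isDefEq.respectTransparency false

universe u

open CategoryTheory CategoryTheory.Limits AlgebraicGeometry IsLocalRing TopologicalSpace

namespace Groth.L12.RadEndo

variable {X : Scheme.{u}}

/-- The reduced subscheme on an irreducible closed set is integral. -/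
theorem isIntegral_vanishingIdeal {X : Scheme.{u}} (C : Closeds X) (hC : IsIrreducible (C : Set X)) :
    AlgebraicGeometry.IsIntegral (Scheme.IdealSheafData.vanishingIdeal C).subscheme := by
  let I := Scheme.IdealSheafData.vanishingIdeal C
  haveI : IsReduced I.subscheme := Groth.L18.isReduced_vanishingIdeal_subscheme C
  have h : IsIrreducible (Set.range I.subschemeι) := by
    rw [I.range_subschemeι, Scheme.IdealSheafData.coe_support_vanishingIdeal]
    exact hC
  haveI : IrreducibleSpace I.subscheme := by
    obtain ⟨_, ⟨t₀, rfl⟩⟩ := h.nonempty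
    haveI : Nonempty I.subscheme := ⟨t₀⟩
    haveI : PreirreducibleSpace I.subscheme := ⟨fun U V hU hV hu hv => by
      obtain ⟨U', hU', rfl⟩ := I.subschemeι.isEmbedding.isInducing.isOpen_iff.1 hU
      obtain ⟨V', hV', rfl⟩ := I.subschemeι.isEmbedding.isInducing.isOpen_iff.1 hV
      obtain ⟨a, -, ha⟩ := hu
      obtain ⟨b, -, hb⟩ := hv
      obtain ⟨_, ⟨c, rfl⟩, hc⟩ := h.isPreirreducible U' V' hU' hV' ⟨_, ⟨a, rfl⟩, ha⟩ ⟨_, ⟨b, rfl⟩, hb⟩
      exact ⟨c, trivial, hc⟩⟩
    exact ⟨‹_›⟩
  exact AlgebraicGeometry.isIntegral_of_irreducibleSpace_of_isReduced _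

/-- Iterates of an endomorphism. -/
noncomputable def it (g : X ⟶ X) : ℕ → (X ⟶ X)
  | 0 => 𝟙 X
  | n + 1 => g ≫ it g n

theorem it_apply (g : X ⟶ X) : ∀ (n : ℕ) (x : X), it g n x = (fun y => g y)^[n] x
  | 0, _ => rfl
  | n + 1, x => by
    rw [Function.iterate_succ_apply]
    show (g ≫ it g n) x = _
    rw [Scheme.Hom.comp_apply, it_apply g n]

theorem universallyInjective_it (g : X ⟶ X) [UniversallyInjective g] :
    ∀ n, UniversallyInjective (it g n)
  | 0 => inferInstanceAs (UniversallyInjective (𝟙 X))
  | n + 1 => by
    haveI := universallyInjective_it g n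
    show UniversallyInjective (g ≫ it g n)
    exact MorphismProperty.comp_mem _ _ _ ‹UniversallyInjective g› ‹_›

/-- The maximal points. -/
def Maxl (X : Scheme.{u}) : Set X := {η | ∀ z, z ⤳ η → z = η}

theorem exists_maxl (x : X) : ∃ η ∈ Maxl X, η ⤳ x := by
  obtain ⟨C, hC, hxC⟩ : ∃ C ∈ irreducibleComponents X, x ∈ C :=
    ⟨_, irreducibleComponent_mem_irreducibleComponents x, mem_irreducibleComponent⟩
  have hcl := isClosed_of_mem_irreducibleComponents C hC
  obtain ⟨η, hη⟩ := QuasiSober.sober hC.1 hcl
  refine ⟨η, fun z hz => ?_, hη.specializes hxC⟩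
  have h1 : C ⊆ closure {z} := by
    rw [← hη.def]
    exact closure_minimal (Set.singleton_subset_iff.2 (specializes_iff_mem_closure.1 hz)) isClosed_closure
  exact IsGenericPoint.eq (le_antisymm (hC.2 isIrreducible_singleton.closure h1) h1) hη

theorem closure_maxl_mem {η : X} (h : η ∈ Maxl X) : closure {η} ∈ irreducibleComponents X := by
  obtain ⟨C, hC, hsub⟩ : ∃ C ∈ irreducibleComponents X, closure {η} ⊆ C := by
    exact ⟨_, irreducibleComponent_mem_irreducibleComponents η,
      closure_minimal (Set.singleton_subset_iff.2 mem_irreducibleComponent) isClosed_irreducibleComponent⟩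
  have hcl := isClosed_of_mem_irreducibleComponents C hC
  obtain ⟨ξ, hξ⟩ := QuasiSober.sober hC.1 hcl
  have := h ξ (hξ.specializes (hsub (subset_closure rfl)))
  subst this
  exact hξ.def ▸ hC

theorem finite_maxl [NoetherianSpace X] : (Maxl X).Finite := by
  haveI : Finite ↥(irreducibleComponents X) := NoetherianSpace.finite_irreducibleComponents.to_subtype
  refine Set.finite_coe_iff.1 (Finite.of_injective
    (fun η : Maxl X => (⟨_, closure_maxl_mem η.2⟩ : irreducibleComponents X)) fun a b h => ?_)
  exact Subtype.ext (IsGenericPoint.eq (show IsGenericPoint (a : X) (closure {(b : X)}) from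
    congrArg Subtype.val h) rfl)

/-- **EGA IV 10.4.11 over `ℤ`**: a universally injective endomorphism is finite and surjective. -/
theorem isFinite (f : X ⟶ Spec (CommRingCat.of (ULift.{u} ℤ))) [LocallyOfFiniteType f]
    [QuasiCompact f] (g : X ⟶ X) [UniversallyInjective g] : IsFinite g ∧ Surjective g := by
  classical
  haveI := isLocallyNoetherian f
  haveI : CompactSpace X := QuasiCompact.compactSpace_of_compactSpace f
  haveI : AlgebraicGeometry.IsNoetherian X := {}
  haveI := surjective f g
  refine ⟨?_, inferInstance⟩
  haveI : Finite (Maxl X) := finite_maxl.to_subtype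
  -- maximal points are permuted
  have hpre : ∀ ξ, g ξ ∈ Maxl X → ξ ∈ Maxl X := fun ξ h z hz =>
    g.injective (h _ (hz.map g.continuous))
  let pre : Maxl X → Maxl X := fun η =>
    ⟨Function.surjInv g.surjective η.1, hpre _ (by rw [Function.surjInv_eq g.surjective]; exact η.2)⟩
  have hpre' : Function.Surjective pre := Finite.surjective_of_injective fun a b h => by
    have := congrArg g (congrArg Subtype.val h)
    simp only [pre, Function.surjInv_eq g.surjective] at this
    exact Subtype.ext this
  have hmap : ∀ η ∈ Maxl X, g η ∈ Maxl X := fun η hη => by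
    obtain ⟨θ, hθ⟩ := hpre' ⟨η, hη⟩
    have : g η = θ.1 := by
      rw [← Function.surjInv_eq g.surjective θ.1]
      exact congrArg g (congrArg Subtype.val hθ).symm
    rw [this]; exact θ.2
  let σ : Equiv.Perm (Maxl X) := Equiv.ofBijective (fun η => ⟨g η, hmap η η.2⟩)
    ⟨fun a b h => Subtype.ext (g.injective (congrArg Subtype.val h)),
      Finite.surjective_of_injective fun a b h => Subtype.ext (g.injective (congrArg Subtype.val h))⟩
  have hσ : ∀ (n : ℕ) (η : Maxl X), it g n η.1 = ((σ ^ n) η).1 := by
    intro n
    induction n with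
    | zero => exact fun _ => rfl
    | succ n ih =>
      intro η
      show (g ≫ it g n) η.1 = _
      rw [Scheme.Hom.comp_apply, pow_succ]
      exact ih (σ η)
  obtain ⟨m, hm⟩ : ∃ m, orderOf σ = m + 1 := ⟨_, (Nat.succ_pred_eq_of_pos (orderOf_pos σ)).symm⟩
  let h := it g (m + 1)
  haveI : UniversallyInjective h := universallyInjective_it g (m + 1)
  haveI : LocallyOfFiniteType h := locallyOfFiniteType f h f
  have hfix : ∀ η : Maxl X, h η.1 = η.1 := fun η => by
    rw [hσ, ← hm, pow_orderOf_eq_one]; rfl
  let C : Maxl X → Closeds X := fun η => ⟨closure {η.1}, isClosed_closure⟩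
  let I : Maxl X → X.IdealSheafData := fun η => Scheme.IdealSheafData.vanishingIdeal (C η)
  have hrange : ∀ η, Set.range (I η).subschemeι = closure {η.1} := fun η => by
    rw [(I η).range_subschemeι, Scheme.IdealSheafData.coe_support_vanishingIdeal]
    rfl
  haveI : UniversallyClosed h := by
    refine universallyClosed_of_cover (fun η => (I η).subschemeι) (fun x => ?_) h fun η => ?_
    · obtain ⟨η, hη, hx⟩ := exists_maxl x
      exact ⟨⟨η, hη⟩, by rw [hrange]; exact specializes_iff_mem_closure.1 hx⟩
    haveI : IsIntegral (I η).subscheme :=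
      isIntegral_vanishingIdeal (C η) isIrreducible_singleton.closure
    let ι := (I η).subschemeι
    have hsub : Set.range (ι ≫ h) ⊆ (C η : Set X) := by
      rintro _ ⟨t, rfl⟩
      have ht : ι t ∈ closure {η.1} := (hrange η).le ⟨t, rfl⟩
      have := (specializes_iff_mem_closure.2 ht).map h.continuous
      rw [hfix η] at this
      exact specializes_iff_mem_closure.1 this
    let hC := IsClosedImmersion.lift ι (ι ≫ h) (by
      rw [Scheme.IdealSheafData.ker_subschemeι]
      exact Groth.L18.vanishingIdeal_le_ker _ _ hsub)
    have hfac : hC ≫ ι = ι ≫ h := IsClosedImmersion.lift_fac _ _ _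
    haveI : UniversallyInjective (hC ≫ ι) := by
      rw [hfac]; exact MorphismProperty.comp_mem _ _ _ inferInstance inferInstance
    haveI : UniversallyInjective hC := by
      have := ((tfae_universallyInjective (hC ≫ ι)).out 0 1 rfl rfl).mp ‹_›
      refine ((tfae_universallyInjective hC).out 0 1 rfl rfl).mpr fun K _ a b e => this K ?_
      show a ≫ hC ≫ ι = b ≫ hC ≫ ι
      rw [← Category.assoc, ← Category.assoc]
      exact congrArg (· ≫ ι) e
    have hgenC : ι (genericPoint (I η).subscheme) = η.1 := by
      have h1 : IsGenericPoint (ι (genericPoint (I η).subscheme)) (closure (ι '' Set.univ)) :=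
        (genericPoint_spec _).image ι.continuous
      rw [Set.image_univ, hrange, closure_closure] at h1
      exact h1.eq rfl
    haveI : IsFinite hC := isFinite_of_integral (ι ≫ f) hC (by
      refine ι.isClosedEmbedding.injective ?_
      rw [← Scheme.Hom.comp_apply, hfac, Scheme.Hom.comp_apply, hgenC, hfix])
    show UniversallyClosed (ι ≫ h)
    rw [← hfac]; infer_instance
  haveI : IsFinite h := isFinite_of_universallyClosed h
  haveI := universallyInjective_it g m
  haveI := isSeparated (it g m)
  haveI : UniversallyClosed (g ≫ it g m) := inferInstanceAs (UniversallyClosed h)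
  haveI : UniversallyClosed g := UniversallyClosed.of_comp_of_isSeparated g (it g m)
  haveI := locallyOfFiniteType f g f
  exact isFinite_of_universallyClosed g

end Groth.L12.RadEndo
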