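import Groth.Agent.L11.Zeta.Points
import Mathlib.AlgebraicGeometry.Morphisms.UniversallyInjective
import Mathlib.AlgebraicGeometry.Morphisms.UniversallyOpen
import Mathlib.AlgebraicGeometry.Morphisms.UniversallyClosed
import Mathlib.AlgebraicGeometry.Morphisms.Separated
import Mathlib.AlgebraicGeometry.Morphisms.QuasiFinite
import Mathlib.AlgebraicGeometry.Morphisms.FinitePresentation
import Mathlib.AlgebraicGeometry.Morphisms.Proper
import Mathlib.AlgebraicGeometry.ZariskisMainTheorem

/-!
# Universally injective endomorphisms: generalities and surjectivity over `ℤ`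
-/

set_option autoImplicit false
set_option linter.style.haveILetI false
set_option backward.isDefEq.respectTransparency.types false
set_option backward.isDefEq.respectTransparency false

universe u

open CategoryTheory CategoryTheory.Limits AlgebraicGeometry IsLocalRing TopologicalSpace

namespace Groth.L12.RadEndo

variable {X Y : Scheme.{u}}

theorem eq_of_comp_eq (g : X ⟶ Y) [UniversallyInjective g] {K : Type u} [Field K]
    {a b : Spec (CommRingCat.of K) ⟶ X} (h : a ≫ g = b ≫ g) : a = b :=
  ((tfae_universallyInjective g).out 0 1 rfl rfl).mp ‹_› K h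

theorem isSeparated (g : X ⟶ Y) [UniversallyInjective g] : IsSeparated g := by
  haveI : Surjective (pullback.diagonal g) := (UniversallyInjective.iff_diagonal g).1 ‹_›
  refine ⟨IsClosedImmersion.of_isPreimmersion _ ?_⟩
  rw [(pullback.diagonal g).surjective.range_eq]
  exact isClosed_univ

theorem isFinite_of_universallyClosed (g : X ⟶ Y) [UniversallyInjective g] [LocallyOfFiniteType g]
    [UniversallyClosed g] : IsFinite g := by
  haveI := isSeparated g
  haveI : LocallyQuasiFinite g := LocallyQuasiFinite.of_injective g.injective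
  haveI : IsProper g := ⟨⟩
  exact IsFinite.of_isProper_of_locallyQuasiFinite g

/-- A universally open morphism which is universally injective and surjective is universally closed. -/
theorem universallyClosed_of_universallyOpen (g : X ⟶ Y) [UniversallyOpen g] [UniversallyInjective g]
    [Surjective g] : UniversallyClosed g := by
  constructor
  intro X' Y' i₁ i₂ f' H
  haveI : UniversallyInjective f' := MorphismProperty.of_isPullback H.flip ‹_›
  haveI : Surjective f' := MorphismProperty.of_isPullback H.flip ‹_›
  haveI : UniversallyOpen f' := MorphismProperty.of_isPullback H.flip ‹_›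
  intro C hC
  have h := f'.isOpenMap _ hC.isOpen_compl
  rw [Set.image_compl_eq ⟨f'.injective, f'.surjective⟩] at h
  exact isOpen_compl_iff.1 h

/-- Universally open and radicial over a point lying in every nonempty open: universally injective. -/
theorem universallyInjective_of_generic (g : X ⟶ Y) [UniversallyOpen g] [IsSeparated g] (η : Y)
    (hη : ∀ U : Set Y, IsOpen U → U.Nonempty → η ∈ U)
    (hgen : ∀ (K : Type u) [Field K] (a b : Spec (CommRingCat.of K) ⟶ X), a ≫ g = b ≫ g →
      (a ≫ g) (closedPoint K) = η → a = b) : UniversallyInjective g := by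
  rw [UniversallyInjective.iff_diagonal]
  refine ⟨fun z => ?_⟩
  by_contra hz
  let V : Set ↑(pullback g g) := (Set.range (pullback.diagonal g))ᶜ
  have hV : IsOpen V := (pullback.diagonal g).isClosedEmbedding.isClosed_range.isOpen_compl
  haveI : UniversallyOpen (pullback.fst g g ≫ g) := inferInstance
  obtain ⟨p, hp, hpη⟩ := hη _ ((pullback.fst g g ≫ g).isOpenMap _ hV) ⟨_, z, hz, rfl⟩
  let φ : Spec (CommRingCat.of ((pullback g g).residueField p)) ⟶ pullback g g :=
    (pullback g g).fromSpecResidueField p
  have hφ : φ (closedPoint _) = p := Scheme.fromSpecResidueField_apply _ _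
  have he : φ ≫ pullback.fst g g = φ ≫ pullback.snd g g := by
    refine hgen _ _ _ (by rw [Category.assoc, Category.assoc, pullback.condition]) ?_
    rw [Category.assoc, Scheme.Hom.comp_apply, hφ, hpη]
  have hd : φ = (φ ≫ pullback.fst g g) ≫ pullback.diagonal g := by
    apply pullback.hom_ext
    · simp
    · simp [he]
  refine hp ⟨(φ ≫ pullback.fst g g) (closedPoint _), ?_⟩
  rw [← Scheme.Hom.comp_apply, ← hd, hφ]

/-- Universal closedness can be tested on a finite family of jointly surjective morphisms. -/
theorem universallyClosed_of_cover {ι : Type*} [Finite ι] {Z : ι → Scheme.{u}} (j : ∀ i, Z i ⟶ X)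
    (hj : ∀ x : X, ∃ i, x ∈ Set.range (j i)) (g : X ⟶ Y) (h : ∀ i, UniversallyClosed (j i ≫ g)) :
    UniversallyClosed g := by
  constructor
  intro X' Y' i₁ i₂ f' H C hC
  let q : ∀ i, pullback i₁ (j i) ⟶ X' := fun i => pullback.fst i₁ (j i)
  have hC' : C = ⋃ i, (q i) '' ((q i) ⁻¹' C) := by
    ext x
    simp only [Set.mem_iUnion, Set.mem_image, Set.mem_preimage]
    refine ⟨fun hx => ?_, ?_⟩
    · obtain ⟨i, z, hz⟩ := hj (i₁ x)
      obtain ⟨w, hw1, hw2⟩ := Scheme.Pullback.exists_preimage_pullback (f := i₁) (g := j i) x z hz.symm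
      exact ⟨i, w, by rw [hw1]; exact hx, hw1⟩
    · rintro ⟨i, w, hw, rfl⟩
      exact hw
  rw [hC', Set.image_iUnion]
  refine isClosed_iUnion_of_finite fun i => ?_
  rw [← Set.image_comp]
  haveI := h i
  have hcl := (h i).universally_isClosedMap _ _ _
    ((IsPullback.of_hasPullback i₁ (j i)).paste_horiz H)
  exact hcl _ (hC.preimage (q i).continuous)

section Int

variable (f : X ⟶ Spec (CommRingCat.of (ULift.{u} ℤ))) [LocallyOfFiniteType f]

include f in
theorem locallyOfFiniteType (g : Y ⟶ X) (f' : Y ⟶ Spec (CommRingCat.of (ULift.{u} ℤ)))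
    [LocallyOfFiniteType f'] : LocallyOfFiniteType g := by
  have hgf : g ≫ f = f' := (specULiftZIsTerminal.{u}).hom_ext _ _
  haveI : LocallyOfFiniteType (g ≫ f) := by rw [hgf]; infer_instance
  exact locallyOfFiniteType_of_comp g f

include f in
theorem isLocallyNoetherian : IsLocallyNoetherian X := by
  haveI : IsNoetherianRing (CommRingCat.of (ULift.{u} ℤ)) :=
    isNoetherianRing_of_ringEquiv ℤ (ULift.ringEquiv (R := ℤ)).symm
  exact LocallyOfFiniteType.isLocallyNoetherian f

include f in
theorem quasiCompact_end [QuasiCompact f] (g : X ⟶ X) : QuasiCompact g := by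
  haveI := isLocallyNoetherian f
  haveI : CompactSpace X := QuasiCompact.compactSpace_of_compactSpace f
  haveI : AlgebraicGeometry.IsNoetherian X := {}
  infer_instance

variable [QuasiCompact f]

include f in
theorem finite_fieldPoints (K : Type u) [Field K] [Finite K] :
    Finite (Spec (CommRingCat.of K) ⟶ X) := by
  classical
  haveI : CompactSpace X := QuasiCompact.compactSpace_of_compactSpace f
  obtain ⟨s, hs⟩ := isCompact_univ.elim_finite_subcover (fun U : X.affineOpens => ((U : X.Opens) : Set X))
    (fun U => U.1.2) (fun x _ => by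
      obtain ⟨_, ⟨U, hU, rfl⟩, hxU, -⟩ :=
        X.isBasis_affineOpens.exists_subset_of_mem_open (Set.mem_univ x) isOpen_univ
      exact Set.mem_iUnion.mpr ⟨⟨U, hU⟩, hxU⟩)
  haveI : ∀ U : s, Finite (Γ(X, U.1) →+* K) := fun U => by
    haveI := Groth.L11.Zeta.finiteType_sections f U.1.2
    obtain ⟨t, ht⟩ := (inferInstance : Algebra.FiniteType ℤ Γ(X, U.1))
    refine Finite.of_injective (fun (φ : Γ(X, U.1) →+* K) (b : t) => φ b) fun φ ψ h => ?_
    have h' : φ.toIntAlgHom = ψ.toIntAlgHom :=
      AlgHom.ext_of_adjoin_eq_top ht fun b hb => congr_fun h ⟨b, hb⟩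
    exact RingHom.ext fun b => DFunLike.congr_fun h' b
  let Φ : (Σ U : s, (Γ(X, U.1) →+* K)) → (Spec (CommRingCat.of K) ⟶ X) := fun z =>
    Spec.map (CommRingCat.ofHom z.2) ≫ z.1.1.2.fromSpec
  refine Finite.of_surjective Φ fun a => ?_
  obtain ⟨U, hU, haU⟩ := Set.mem_iUnion₂.mp (hs (Set.mem_univ (a (closedPoint K))))
  have hsub : Set.range a ⊆ Set.range U.2.fromSpec := by
    rw [U.2.range_fromSpec]
    rintro _ ⟨y, rfl⟩
    rw [Subsingleton.elim y (closedPoint K)]
    exact haU
  refine ⟨⟨⟨U, hU⟩, (Spec.preimage (IsOpenImmersion.lift U.2.fromSpec a hsub)).hom⟩, ?_⟩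
  change Spec.map (Spec.preimage _) ≫ U.2.fromSpec = a
  rw [Spec.map_preimage, IsOpenImmersion.lift_fac]

include f in
/-- Ax: a universally injective endomorphism of a scheme of finite type over `ℤ` is surjective. -/
theorem surjective (g : X ⟶ X) [UniversallyInjective g] : Surjective g := by
  haveI : IsJacobsonRing (ULift.{u} ℤ) := Groth.L11.Zeta.isJacobsonRing_ulift
  haveI : JacobsonSpace X := LocallyOfFiniteType.jacobsonSpace f
  haveI := isLocallyNoetherian f
  haveI := locallyOfFiniteType f g f
  haveI := quasiCompact_end f g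
  haveI : CompactSpace X := QuasiCompact.compactSpace_of_compactSpace f
  have key : ∀ (s : Set X), Topology.IsConstructible s → s.Nonempty → (s ∩ closedPoints X).Nonempty := by
    intro s hs
    haveI : Nonempty X.affineOpens := ⟨⟨⊥, isAffineOpen_bot X⟩⟩
    haveI : AlgebraicGeometry.IsNoetherian X := {}
    induction s, hs using Topology.IsConstructible.induction_of_isTopologicalBasis
      (fun V : X.affineOpens => ((V : X.Opens) : Set X)) with
    | basis =>
      have h : TopologicalSpace.IsTopologicalBasis
          ((fun U : X.Opens => (U : Set X)) '' {U | IsAffineOpen U}) := X.isBasis_affineOpens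
      convert h using 1
      ext x
      simp [Scheme.affineOpens]
    | isCompact_basis V => exact V.2.isCompact
    | sdiff V t ht =>
      intro hne
      exact nonempty_inter_closedPoints hne (V.1.isOpen.isLocallyClosed.inter
        (isOpen_biUnion fun j _ => j.1.isOpen).isClosed_compl.isLocallyClosed)
    | union a _ b _ ha hb =>
      rintro ⟨y, hy | hy⟩
      · exact (ha ⟨y, hy⟩).mono (Set.inter_subset_inter_left _ Set.subset_union_left)
      · exact (hb ⟨y, hy⟩).mono (Set.inter_subset_inter_left _ Set.subset_union_right)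
  refine ⟨fun y => ?_⟩
  by_contra hy
  haveI : AlgebraicGeometry.IsNoetherian X := {}
  have hc : Topology.IsConstructible (Set.range g)ᶜ := by
    have := (g.isLocallyConstructible_image Topology.IsConstructible.univ.isLocallyConstructible).isConstructible
    rw [Set.image_univ] at this
    exact this.compl
  obtain ⟨z, hz, hzc⟩ := key _ hc ⟨y, hy⟩
  haveI : Finite (X.residueField z) := Groth.L11.Zeta.finite_residueField f hzc
  haveI := finite_fieldPoints f (X.residueField z)
  obtain ⟨s, hs⟩ := Finite.surjective_of_injective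
    (f := fun s : Spec (CommRingCat.of (X.residueField z)) ⟶ X => s ≫ g)
    (fun _ _ h => eq_of_comp_eq g h) (X.fromSpecResidueField z)
  refine hz ⟨s (closedPoint _), ?_⟩
  rw [← Scheme.Hom.comp_apply]
  exact (congrArg (fun t => t.base (closedPoint _)) hs).trans (Scheme.fromSpecResidueField_apply _ _)

end Int

end Groth.L12.RadEndo
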