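import Groth.Agent.L12.RadEndo.Basic
import Groth.Agent.L22.Norm.Coker
import Groth.Agent.L07.FlatVal.NagataInt
import Groth.Agent.S2568
import Groth.Agent.S2351
import Groth.Agent.S9690
import Groth.Agent.S9812

/-!
# Universally injective endomorphisms of integral schemes of finite type over `ℤ` are finite
-/

set_option autoImplicit false
set_option linter.style.haveILetI false
set_option backward.isDefEq.respectTransparency.types false
set_option backward.isDefEq.respectTransparency false

universe u

open CategoryTheory CategoryTheory.Limits AlgebraicGeometry IsLocalRing TopologicalSpace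

namespace Groth.L12.RadEndo

variable {X : Scheme.{u}}

theorem isNagata_sections (f : X ⟶ Spec (CommRingCat.of (ULift.{u} ℤ))) [LocallyOfFiniteType f]
    (U : X.affineOpens) : CAlg.IsNagata Γ(X, (U : X.Opens)) := by
  haveI := Groth.L11.Zeta.finiteType_sections f U.2
  letI : Algebra (ULift.{u} ℤ) Γ(X, (U : X.Opens)) :=
    ((Int.castRingHom _).comp ULift.ringEquiv.toRingHom).toAlgebra
  haveI : Algebra.FiniteType (ULift.{u} ℤ) Γ(X, (U : X.Opens)) := by
    have h : (algebraMap ℤ Γ(X, (U : X.Opens))).FiniteType := RingHom.finiteType_algebraMap.mpr inferInstance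
    refine RingHom.finiteType_algebraMap.mp
      (RingHom.FiniteType.of_comp_finiteType (f := ULift.ringEquiv.symm.toRingHom) ?_)
    convert h using 1
    exact RingHom.ext_int _ _
  exact Groth.L01.Nagata.isNagata_of_finiteType Groth.L07.FlatVal.isNagata_int

theorem eq_of_specializes_of_lqf {Y : Scheme.{u}} (g : X ⟶ Y) [LocallyQuasiFinite g] {a b : X}
    (h : a ⤳ b) (e : g a = g b) : a = b := by
  haveI : DiscreteTopology ↥(g ⁻¹' {g b}) := (g.isDiscrete_preimage_singleton (g b)).1
  have h' : (⟨a, e⟩ : ↥(g ⁻¹' {g b})) ⤳ ⟨b, rfl⟩ := (subtype_specializes_iff _ _).2 h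
  exact congrArg Subtype.val h'.eq

theorem topologicalKrullDim_nonneg' {T : Type*} [TopologicalSpace T] [h : Nonempty T] :
    (0 : WithBot ℕ∞) ≤ topologicalKrullDim T := by
  obtain ⟨t⟩ := h
  haveI : Nonempty (IrreducibleCloseds T) :=
    ⟨⟨closure {t}, isIrreducible_singleton.closure, isClosed_closure⟩⟩
  exact Order.krullDim_nonneg

theorem fibreDimAt_eq {Y : Scheme.{u}} (g : X ⟶ Y) [LocallyQuasiFinite g] (x : X) :
    FlatMor.fibreDimAt g x = 0 := by
  haveI : DiscreteTopology ↥(g.fiber (g x)) := by
    haveI : DiscreteTopology ↥(g ⁻¹' {g x}) := (g.isDiscrete_preimage_singleton (g x)).1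
    exact (g.fiberHomeo (g x)).symm.discreteTopology
  refine le_antisymm ?_ ?_
  · refine (iInf_le _ ⟨⊤, trivial⟩).trans ?_
    exact topologicalKrullDim_zero_of_discreteTopology _
  · refine le_iInf fun U => ?_
    haveI : Nonempty ↥((U.1 : Set ↥(g.fiber (g x)))) := ⟨⟨_, U.2⟩⟩
    exact topologicalKrullDim_nonneg'

theorem dim_fiber_eq {Y : Scheme.{u}} (g : X ⟶ Y) [LocallyQuasiFinite g] (x : X) :
    topologicalKrullDim ↥(g.fiber (g x)) = 0 := by
  haveI : DiscreteTopology ↥(g.fiber (g x)) := by
    haveI : DiscreteTopology ↥(g ⁻¹' {g x}) := (g.isDiscrete_preimage_singleton (g x)).1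
    exact (g.fiberHomeo (g x)).symm.discreteTopology
  haveI : Nonempty ↥(g.fiber (g x)) := ⟨g.asFiber x⟩
  exact le_antisymm (topologicalKrullDim_zero_of_discreteTopology _) topologicalKrullDim_nonneg'

/-- The integral case. -/
theorem isFinite_of_integral (f : X ⟶ Spec (CommRingCat.of (ULift.{u} ℤ))) [LocallyOfFiniteType f]
    [QuasiCompact f] [IsIntegral X] (g : X ⟶ X) [UniversallyInjective g]
    (hg : g (genericPoint X) = genericPoint X) : IsFinite g := by
  haveI := isLocallyNoetherian f
  haveI := locallyOfFiniteType f g f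
  haveI : CompactSpace X := QuasiCompact.compactSpace_of_compactSpace f
  haveI : AlgebraicGeometry.IsNoetherian X := {}
  haveI : QuasiCompact (X.fromSpecStalk (genericPoint X)) := inferInstance
  haveI : QuasiSeparated (X.fromSpecStalk (genericPoint X)) := inferInstance
  obtain ⟨hint, hnormal, hsurj, hgen, hbij⟩ := Groth.Agent.S2351.result X
  haveI := hint
  haveI := hsurj
  let ν := Curv2.normalizationι X
  haveI : IsFinite ν := Groth.L22.Norm.isFinite_normalizationι X (isNagata_sections f)
  haveI : LocallyQuasiFinite ν := inferInstance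
  let fW : Curv2.normalization X ⟶ Spec (CommRingCat.of (ULift.{u} ℤ)) := ν ≫ f
  haveI : LocallyOfFiniteType fW := inferInstanceAs (LocallyOfFiniteType (ν ≫ f))
  haveI : QuasiCompact fW := inferInstanceAs (QuasiCompact (ν ≫ f))
  let η := genericPoint (Curv2.normalization X)
  have honly : ∀ w, ν w = genericPoint X → w = η := fun w hw =>
    (eq_of_specializes_of_lqf ν (genericPoint_specializes w) (hgen.trans hw.symm)).symm
  obtain ⟨G, hG, -⟩ := Groth.Agent.S9690.result X (ν ≫ g) hnormal fun z hz => by
    have : z = η := by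
      have hu : closure ({z} : Set ↥(Curv2.normalization X)) = Set.univ := by
        rw [irreducibleComponents_eq_singleton] at hz
        exact hz
      exact (IsGenericPoint.eq (show IsGenericPoint z Set.univ from hu) (genericPoint_spec _))
    subst this
    show g (ν η) = _
    rw [show ν η = genericPoint X from hgen]
    exact hg
  haveI : LocallyOfFiniteType G := locallyOfFiniteType fW G fW
  have hGη : G η = η := honly _ (by
    rw [← Scheme.Hom.comp_apply, show G ≫ ν = ν ≫ g from hG, Scheme.Hom.comp_apply,
      show ν η = genericPoint X from hgen, hg])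
  haveI : LocallyQuasiFinite (G ≫ ν) := by
    haveI : LocallyQuasiFinite g := LocallyQuasiFinite.of_injective g.injective
    rw [show G ≫ ν = ν ≫ g from hG]; infer_instance
  haveI : LocallyQuasiFinite G := LocallyQuasiFinite.of_comp G ν
  haveI : IsSeparated (G ≫ ν) := by
    haveI := isSeparated g
    rw [show G ≫ ν = ν ≫ g from hG]; infer_instance
  haveI : IsSeparated G := IsSeparated.of_comp G ν
  haveI : IsDominant G := ⟨by
    refine dense_iff_closure_eq.2 (Set.eq_univ_of_univ_subset ?_)
    rw [← (genericPoint_spec (Curv2.normalization X))]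
    exact closure_mono (Set.singleton_subset_iff.2 ⟨η, hGη⟩)⟩
  haveI : UniversallyOpen G := Groth.Agent.S2568.result (fun w => by
      obtain ⟨h1, h2⟩ := hnormal w
      haveI := h1
      haveI := h2
      exact Groth.Agent.S9812.result _) G
    (fun w => (fibreDimAt_eq G w).trans (dim_fiber_eq G _).symm)
  haveI : UniversallyInjective G := by
    refine universallyInjective_of_generic G η (fun U hU hne => ?_) fun K _ a b hab ha => ?_
    · exact ((genericPoint_spec (Curv2.normalization X)).mem_open_set_iff hU).2
        (by simpa using hne)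
    have key : ∀ c : Spec (CommRingCat.of K) ⟶ Curv2.normalization X,
        (c ≫ G) (closedPoint K) = η →
        ∃ σ, c = Spec.map σ ≫ (Curv2.normalization X).fromSpecResidueField η := by
      intro c hc
      have hcη : c (closedPoint K) = η := honly _ (g.injective (by
        rw [← Scheme.Hom.comp_apply ν g, ← hG, Scheme.Hom.comp_apply, ← Scheme.Hom.comp_apply c G,
          hc, show ν η = genericPoint X from hgen, hg]))
      obtain ⟨⟨p, σ⟩, rfl⟩ := ((Curv2.normalization X).SpecToEquivOfField K).symm.surjective c
      rw [Scheme.SpecToEquivOfField_symm_apply, Scheme.Hom.comp_apply,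
        Scheme.fromSpecResidueField_apply] at hcη
      subst hcη
      exact ⟨σ, Scheme.SpecToEquivOfField_symm_apply _ _ _⟩
    obtain ⟨σ, hσ⟩ := key a ha
    obtain ⟨τ, hτ⟩ := key b (by rw [← hab]; exact ha)
    have h1 : a ≫ ν = b ≫ ν := eq_of_comp_eq g (by
      rw [Category.assoc, Category.assoc, ← hG, reassoc_of% hab])
    haveI : IsIso (ν.residueFieldMap η) := (ConcreteCategory.isIso_iff_bijective _).2 hbij
    haveI : Mono (Spec.map (ν.residueFieldMap η) ≫ X.fromSpecResidueField (ν η)) := inferInstance
    haveI : Mono ((Curv2.normalization X).fromSpecResidueField η ≫ ν) := by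
      rw [← Scheme.Hom.SpecMap_residueFieldMap_fromSpecResidueField]; infer_instance
    rw [hσ, hτ] at h1 ⊢
    simp only [Category.assoc, cancel_mono] at h1
    rw [h1]
  haveI := surjective fW G
  haveI := universallyClosed_of_universallyOpen G
  haveI : UniversallyClosed (ν ≫ g) := by rw [← hG]; infer_instance
  haveI := UniversallyClosed.of_comp_surjective ν g
  exact isFinite_of_universallyClosed g

end Groth.L12.RadEndo
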