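import Groth.Agent.L12.RadEndo.General
import Groth.Agent.L23.SchemeFacts
import Groth.Agent.L05.ModelFG
import Groth.Agent.L19.Limit.Hom
import Groth.Agent.S2590

/-!
# EGA IV 10.4.11: universally injective endomorphisms of finitely presented schemes
-/

set_option autoImplicit false
set_option linter.style.haveILetI false
set_option backward.isDefEq.respectTransparency.types false
set_option backward.isDefEq.respectTransparency false

universe u

open CategoryTheory CategoryTheory.Limits AlgebraicGeometry Opposite MorphismProperty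
open Groth.L19.Limit

namespace Groth.L12.RadEndo

open Groth.L05.ModelFG in
theorem isFinite_surjective_of_affine {A : Type u} [CommRing A] {X : Scheme.{u}}
    (f : X ⟶ Spec (CommRingCat.of A)) [LocallyOfFinitePresentation f] [QuasiCompact f]
    [QuasiSeparated f] (g : X ⟶ X) (hg : g ≫ f = f) [UniversallyInjective g] :
    IsFinite g ∧ Surjective g := by
  haveI : ∀ S, CompactSpace ((specDiagram A).obj S) := fun S =>
    inferInstanceAs (CompactSpace (Spec _))
  haveI : ∀ S, QuasiSeparatedSpace ((specDiagram A).obj S) := fun S =>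
    inferInstanceAs (QuasiSeparatedSpace (Spec _))
  haveI : LocallyOfFinitePresentation (X := X) (Y := (specCone A).pt) f :=
    ‹LocallyOfFinitePresentation f›
  obtain ⟨j, X₀, f₀, q, h1, h2, h3, hsq⟩ :=
    Groth.L05.DescendFP.exists_stage (isLimitSpecCone A) (X := X) f
  haveI : CompactSpace X₀ := QuasiCompact.compactSpace_of_compactSpace f₀
  haveI : QuasiSeparatedSpace X₀ := quasiSeparatedSpace_of_quasiSeparated f₀
  obtain ⟨k, φ, fk, sX, sY, e1, a1, a2, b1, b2, hc⟩ :=
    exists_hom_stage (isLimitSpecCone A) hsq hsq g hg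
  have hs : sY = sX := pullback.hom_ext (b1.trans a1.symm) (b2.trans a2.symm)
  rw [hs] at hc
  set p := pullback.snd f₀ ((specDiagram A).map φ) with hp
  have hPk : IsPullback sX f p ((specCone A).π.app k) := by
    refine IsPullback.of_right (h₁₂ := pullback.fst f₀ ((specDiagram A).map φ))
      (h₂₂ := (specDiagram A).map φ) (v₁₃ := f₀) ?_ a2 (IsPullback.of_hasPullback _ _)
    rw [a1, (specCone A).w]
    exact hsq
  have hX : IsPullback sX g fk sX :=
    IsPullback.of_bot (by rw [e1, hg]; exact hPk) hc hPk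
  haveI : LocallyOfFinitePresentation p := pullback_snd _ _ h1
  haveI : QuasiCompact p := pullback_snd _ _ h2
  haveI : QuasiSeparated p := pullback_snd _ _ h3
  haveI : CompactSpace ↥(pullback f₀ ((specDiagram A).map φ)) :=
    QuasiCompact.compactSpace_of_compactSpace p
  haveI : LocallyOfFinitePresentation (fk ≫ p) := by rw [e1]; infer_instance
  haveI : QuasiCompact (fk ≫ p) := by rw [e1]; infer_instance
  haveI : QuasiSeparated (fk ≫ p) := by rw [e1]; infer_instance
  haveI : ∀ (i j : _) (t : i ⟶ j), IsAffineHom ((specDiagram A).map t) := fun i j t =>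
    inferInstanceAs (IsAffineHom (Spec.map _))
  obtain ⟨l, ψ, Xl, Yl, fl, gl, pY, pX, s1, s2, hinj⟩ :=
    Groth.Agent.S2590.result (specDiagram A) (specCone A) (isLimitSpecCone A) k fk p g f sX sX hPk hX
  haveI := hinj
  have s3 : IsPullback pX (fl ≫ gl) p ((specDiagram A).map ψ) := by
    have := s2.paste_vert s1
    rwa [e1] at this
  let e : Yl ≅ Xl := s1.isoIsPullback _ _ s3
  haveI : LocallyOfFiniteType gl :=
    MorphismProperty.of_isPullback (P := @LocallyOfFiniteType) s1 inferInstance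
  haveI : QuasiCompact gl := MorphismProperty.of_isPullback (P := @QuasiCompact) s1 inferInstance
  haveI hAl : Algebra.FiniteType ℤ l.unop.1 :=
    (Subalgebra.fg_iff_finiteType _).mp l.unop.2
  let z : (specDiagram A).obj l ⟶ Spec (CommRingCat.of (ULift.{u} ℤ)) :=
    Spec.map (CommRingCat.ofHom ((algebraMap ℤ l.unop.1).comp (ULift.ringEquiv (R := ℤ)).toRingHom))
  haveI : LocallyOfFiniteType z := by
    refine (HasRingHomProperty.Spec_iff (P := @LocallyOfFiniteType)).mpr ?_
    exact ((RingHom.finiteType_algebraMap (A := ℤ) (B := l.unop.1)).mpr hAl).comp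
      (RingHom.FiniteType.of_surjective _ (ULift.ringEquiv (R := ℤ)).surjective)
  haveI : QuasiCompact z := inferInstanceAs (QuasiCompact (Spec.map _))
  haveI : UniversallyInjective (e.hom ≫ fl) := MorphismProperty.comp_mem _ _ _ inferInstance hinj
  obtain ⟨hfin, hsur⟩ := isFinite (gl ≫ z) (e.hom ≫ fl)
  haveI := hfin
  haveI := hsur
  have he : fl = e.inv ≫ e.hom ≫ fl := by simp
  haveI : IsFinite fl := by rw [he]; infer_instance
  haveI : Surjective fl := by rw [he]; infer_instance
  exact ⟨of_stage (P := @IsFinite) (c := specCone A) hPk hX s1 s2 ‹_›,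
    of_stage (P := @Surjective) (c := specCone A) hPk hX s1 s2 ‹_›⟩

/-- EGA IV 10.4.11. -/
theorem bijective_and_isFinite {X S : Scheme.{u}} (f : X ⟶ S) [LocallyOfFinitePresentation f]
    [QuasiCompact f] [QuasiSeparated f] (g : X ⟶ X) (hg : g ≫ f = f) [UniversallyInjective g] :
    Function.Bijective ⇑g.base ∧ IsFinite g := by
  have hloc : ∀ U : S.affineOpens, IsFinite (g ∣_ (f ⁻¹ᵁ U.1)) ∧ Surjective (g ∣_ (f ⁻¹ᵁ U.1)) := by
    intro U
    have hpre : g ⁻¹ᵁ (f ⁻¹ᵁ U.1) = f ⁻¹ᵁ U.1 := by rw [← Scheme.Hom.comp_preimage, hg]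
    let e := X.isoOfEq hpre
    haveI : UniversallyInjective (g ∣_ (f ⁻¹ᵁ U.1)) :=
      IsZariskiLocalAtTarget.restrict ‹UniversallyInjective g› _
    have hk : (e.inv ≫ (g ∣_ (f ⁻¹ᵁ U.1))) ≫ (f ∣_ U.1) = f ∣_ U.1 := by
      rw [← cancel_mono U.1.ι, Category.assoc, Category.assoc, morphismRestrict_ι]
      rw [morphismRestrict_ι_assoc, ← Category.assoc]
      show (e.inv ≫ (g ⁻¹ᵁ (f ⁻¹ᵁ U.1)).ι) ≫ g ≫ f = _
      rw [hg, Scheme.isoOfEq_inv_ι]
    haveI : LocallyOfFinitePresentation (f ∣_ U.1) := inferInstance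
    haveI : QuasiCompact (f ∣_ U.1) := IsZariskiLocalAtTarget.restrict ‹QuasiCompact f› _
    haveI : QuasiSeparated (f ∣_ U.1) := IsZariskiLocalAtTarget.restrict ‹QuasiSeparated f› _
    haveI : UniversallyInjective (e.inv ≫ (g ∣_ (f ⁻¹ᵁ U.1))) :=
      MorphismProperty.comp_mem _ _ _ inferInstance ‹_›
    obtain ⟨h1, h2⟩ := isFinite_surjective_of_affine (A := Γ(S, U.1))
      ((f ∣_ U.1) ≫ U.2.isoSpec.hom) (e.inv ≫ (g ∣_ (f ⁻¹ᵁ U.1)))
      (by rw [← Category.assoc, hk])
    haveI := h1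
    haveI := h2
    have he : g ∣_ (f ⁻¹ᵁ U.1) = e.hom ≫ e.inv ≫ (g ∣_ (f ⁻¹ᵁ U.1)) := by simp
    exact ⟨by rw [he]; infer_instance, by rw [he]; infer_instance⟩
  have hcov : ⨆ U : S.affineOpens, f ⁻¹ᵁ U.1 = ⊤ := by
    rw [← Scheme.Hom.preimage_iSup, iSup_affineOpens_eq_top, Scheme.Hom.preimage_top]
  have h1 : IsFinite g :=
    (IsZariskiLocalAtTarget.iff_of_iSup_eq_top (P := @IsFinite) _ hcov).2 fun U => (hloc U).1
  haveI : Surjective g :=
    (IsZariskiLocalAtTarget.iff_of_iSup_eq_top (P := @Surjective) _ hcov).2 fun U => (hloc U).2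
  exact ⟨⟨g.injective, g.surjective⟩, h1⟩

end Groth.L12.RadEndo
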